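import Cfsg.Agent.H659.Rs.OverC
import Cfsg.Agent.H659.Rs.Box2
import Cfsg.Agent.S5823

/-!
# S3691, `PSp_8(2^f)`: the maximal overgroups of the large primes (helper173, template of helper659)

* `over4a_of : Res4 → Over4a`, `over4b_of : Res4 → Over4b`, from S5823.
-/

set_option autoImplicit false
set_option linter.unusedSectionVars false

namespace Cfsg.Agent.H173.Rs

open Cfsg Cfsg.Geo Module Cfsg.Agent.H109.Cov Cfsg.Agent.H659.Rs
open Cfsg.Agent.H955 (IsPlus)
open Cfsg.Agent.ClassicalGeometry.SympBasic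
open scoped MatrixGroups Matrix

/-- the residual class is empty (S5824) -/
def Res4 : Prop :=
  ∀ {F : Type} [Field F] [Fintype F] {f : ℕ}, 4 ≤ f → Fintype.card F = 2 ^ f →
    ∀ H : Subgroup (GL (Fin 4 ⊕ Fin 4) F), IsMaximalIn (spGL 4 F) H → ¬ InSymplecticResidualClass H

/-- elements of prime order of the normaliser of a field of degree `r` centralise it -/
theorem comm_of_field {ι : Type} [Fintype ι] [DecidableEq ι] {F : Type*} [Field F] [Fintype F] [Nonempty ι] {r s : ℕ}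
    (hr : r.Prime) {K : Subalgebra F (Matrix ι ι F)} (hK : IsFieldSubalgebra r K) (hs : s.Prime) (hsr : s ≠ r)
    {g : GL ι F} (hg : g ∈ subalgebraNormalizer K) (hgs : g ^ s = 1) {k : Matrix ι ι F} (hk : k ∈ K) :
    (g : Matrix ι ι F) * k = k * (g : Matrix ι ι F) := by
  classical
  have hfin : Finite (GL ι F) := inferInstance
  have := Fact.mk hs
  have hN : H912.NormAlg (subalgebraNormalizer K) K := fun _ hh a ha => (hh a).mp ha
  let _ : Field K := (H912.isField_of_fieldSub hK).toField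
  have hfd : Module.Finite F K := inferInstance
  have hKfin : Finite K := Module.finite_of_finite F
  have hgal : IsGalois F K := inferInstance
  let σ : K ≃ₐ[F] K := H912.conjSub hN ⟨g, hg⟩
  have hσk : ∀ (k : ℕ) (x : K), (((σ ^ k) x : K) : Matrix ι ι F) =
      ((g ^ k : GL ι F) : Matrix ι ι F) * x * (((g ^ k)⁻¹ : GL ι F) : Matrix ι ι F) := by
    intro k
    induction k with
    | zero => intro x; simp
    | succ k ih =>
      intro x
      rw [pow_succ, AlgEquiv.mul_apply, ih, H912.conjSub_coe, pow_succ, _root_.mul_inv_rev, Units.val_mul,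
        Units.val_mul]
      simp only [Matrix.mul_assoc]
  have hσs : σ ^ s = 1 := by
    apply AlgEquiv.ext
    intro x
    apply Subtype.ext
    rw [hσk, hgs]
    simp
  have hσ1 : σ = 1 := by
    have h1 : orderOf σ ∣ s := orderOf_dvd_of_pow_eq_one hσs
    have h2 : orderOf σ ∣ r := by
      have h3 : Nat.card (K ≃ₐ[F] K) = r := by
        rw [IsGalois.card_aut_eq_finrank, hK.finrank_eq]
      rw [← h3]
      exact orderOf_dvd_natCard σ
    have h3 : Nat.Coprime s r := (Nat.coprime_primes hs hr).2 hsr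
    have h4 : orderOf σ ∣ 1 := by
      rw [← Nat.Coprime.gcd_eq_one h3]
      exact Nat.dvd_gcd h1 h2
    exact orderOf_eq_one_iff.1 (Nat.dvd_one.1 h4)
  have h5 := hσk 1 ⟨k, hk⟩
  rw [hσ1, one_pow, pow_one] at h5
  have h6 : k = (g : Matrix ι ι F) * k * ((g⁻¹ : GL ι F) : Matrix ι ι F) := h5
  have h7 : k * (g : Matrix ι ι F) = (g : Matrix ι ι F) * k * (((g⁻¹ : GL ι F) : Matrix ι ι F) * (g : Matrix ι ι F)) := by
    rw [← Matrix.mul_assoc, ← h6]
  rw [h7, ← Units.val_mul, inv_mul_cancel, Units.val_one, Matrix.mul_one]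

section

variable {F : Type} [Field F] [Fintype F] {f : ℕ}

/-- the minus type -/
theorem not_plus8 {r : ℕ} (hf : 4 ≤ f) (hF : Fintype.card F = 2 ^ f) (hr : Pm (8 * f) r) {Q : (Fin 4 ⊕ Fin 4 → F) → F}
    (hQ : IsNondegenerateQuadraticForm Q) (hpol : ∀ u v, QuadraticMap.polar Q u v = sympForm 4 F u v)
    {H : Subgroup (GL (Fin 4 ⊕ Fin 4) F)} (hH : H ≤ isometryGroup F Q) (hd : r ∣ Nat.card H) : ¬ IsPlusTypeOn Q ⊤ := by
  intro hP
  obtain ⟨Q, rfl, hnd⟩ := Cfsg.Agent.H883.Bridge.exists_quadraticForm hQ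
  rw [plusTop_iff] at hP
  have hpp := hr.pp (by norm_num) (by omega : 1 ≤ f)
  have hnd' : Cfsg.Agent.LieClassical.OrthCore.Nondeg Q := by
    intro x hx
    apply eq_zero_of_forall_sympForm_right
    intro z
    rw [← hpol]
    exact hx z
  have hc := Cfsg.Agent.H957.card_isometryGroup_plus Q hnd' (m := 4) (by norm_num) rfl hP
  have hfin : Finite (GL (Fin 4 ⊕ Fin 4) F) := inferInstance
  have h1 := hd.trans (Subgroup.card_dvd_of_le hH)
  rw [hc, hF, Finset.prod_range_succ, Finset.prod_range_succ, Finset.prod_range_one] at h1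
  have h8 : ∀ i, 1 ≤ i → i < 8 → ¬ r ∣ (2 ^ f) ^ i - 1 := by
    intro i h2 h3 h4
    rw [hpp.pow_iff (by omega)] at h4
    have := Nat.le_of_dvd (by omega) h4
    omega
  have h2 : ¬ r ∣ 2 := hpp.ndvd
  rcases hr.prime.dvd_mul.1 h1 with h1 | h1
  · rcases hr.prime.dvd_mul.1 h1 with h1 | h1
    · rcases hr.prime.dvd_mul.1 h1 with h1 | h1
      · exact h2 h1
      · exact h2 (hr.prime.dvd_of_dvd_pow (hr.prime.dvd_of_dvd_pow h1))
    · exact h8 4 (by norm_num) (by norm_num) h1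
  · rcases hr.prime.dvd_mul.1 h1 with h1 | h1
    · rcases hr.prime.dvd_mul.1 h1 with h1 | h1
      · exact h8 2 (by norm_num) (by norm_num) h1
      · exact h8 4 (by norm_num) (by norm_num) h1
    · exact h8 6 (by norm_num) (by norm_num) h1

/-- elements of order `r` (exponent 8) are irreducible -/
theorem eight_sub {r : ℕ} (hr : PP 2 f 8 r) (hf : 1 ≤ f) (hF : Nat.card F = 2 ^ f) {x : GL (Fin 4 ⊕ Fin 4) F}
    (hx : x ^ r = 1) (hx1 : x ≠ 1) {W : Submodule F (Fin 4 ⊕ Fin 4 → F)} (hW : Inv x W) (hW0 : W ≠ ⊥) :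
    8 ≤ finrank F W := by
  have h1 := hr.dvd_fx hf hF hx
  have h2 := finrank_fx_lt hx1
  have h3 : Fintype.card (Fin 4 ⊕ Fin 4) = 8 := rfl
  rw [h3] at h1 h2
  have h4 : finrank F (fx x) = 0 := by omega
  have h5 : finrank F (W ⊓ fx x : Submodule F _) = 0 := by
    have := Submodule.finrank_mono (inf_le_right : W ⊓ fx x ≤ fx x)
    omega
  have h6 := hr.dvd_dim hf hF hx hW
  rw [h5, Nat.sub_zero] at h6
  have h7 : finrank F W ≠ 0 := by
    rw [Ne, Submodule.finrank_eq_zero]; exact hW0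
  exact Nat.le_of_dvd (by omega) h6

/-- elements of order `s` (exponent 6): the fixed space has dimension 2 -/
theorem six_fx {s : ℕ} (hs : PP 2 f 6 s) (hf : 1 ≤ f) (hF : Nat.card F = 2 ^ f) {x : GL (Fin 4 ⊕ Fin 4) F}
    (hx : x ^ s = 1) (hx1 : x ≠ 1) : finrank F (fx x) = 2 := by
  have h1 := hs.dvd_fx hf hF hx
  have h2 := finrank_fx_lt hx1
  have h3 : Fintype.card (Fin 4 ⊕ Fin 4) = 8 := rfl
  rw [h3] at h1 h2
  omega

end

theorem over4a_of (hres : Res4) : Over4a := by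
  intro F _ _ f r hf hF hr H hH hd
  have hf1 : 1 ≤ f := by omega
  have hpp := hr.pp (by norm_num) hf1
  have hFn : Nat.card F = 2 ^ f := by rw [Nat.card_eq_fintype_card, hF]
  have hr6 := hpp.lt hf1 (by norm_num)
  have hodd := even_of hf1 hF
  obtain ⟨x, hxH, hxr, hx1⟩ := exists_elt hr.prime hd
  rcases S5823.result H hH with ⟨W, hW0, hts, e⟩ | ⟨W, hW0, -, hW, e⟩ | ⟨-, D, hD, e⟩ | ⟨D, hD, e⟩ | ⟨h, -⟩ |
    ⟨K, hK, hsa, halt, e⟩ | ⟨h, -⟩ | ⟨h, -⟩ | ⟨F₀, r', P, ζ, hr', hc, -, -, e⟩ | ⟨p, R, hp, hpo, hpc, -⟩ | ⟨h, -⟩ |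
    ⟨-, Q, hQ, hpol, e⟩ | h
  · exfalso
    rw [e] at hxH
    have h1 := eight_sub hpp hf1 hFn hxr hx1 (inv_of_mem hxH.1) hW0
    have h2 := finrank_le_of_ts hts
    omega
  · exfalso
    rw [e] at hxH
    have h1 := eight_sub hpp hf1 hFn hxr hx1 (inv_of_mem hxH.1) hW0
    omega
  · exfalso
    rw [e] at hd
    exact kill_decomp hpp hf1 hFn hD.decomp (by omega) (by norm_num) (dvd_left hd)
  · exfalso
    rw [e] at hd
    exact kill_decomp hpp hf1 hFn hD.decomp (by omega) (by norm_num) (dvd_left hd)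
  · exact absurd h hodd
  · left
    exact ⟨K, hK, hsa, halt, by rw [e]; exact inf_le_left⟩
  · exact absurd h hodd
  · exact absurd h hodd
  · exfalso
    rw [e] at hd
    refine kill_subfield Nat.prime_two hpp hf1 hFn hr'.two_le hc P (by norm_num) ?_ (dvd_left hd)
    have : Fintype.card (Fin 4 ⊕ Fin 4) = 8 := rfl
    have := hr'.two_le
    omega
  · rw [← hpc] at hpo
    exact absurd hpo hodd
  · exact absurd h hodd
  · right
    have hle : H ≤ isometryGroup F Q := by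
      intro g hg
      rw [e] at hg
      exact Cfsg.Agent.H262.El.mem_isometry (by norm_num) hpol hg.1 hg.2
    exact ⟨Q, hQ, hpol, not_plus8 hf hF hr hQ hpol hle hd, hle⟩
  · exact absurd h (hres hf hF H hH)

theorem over4b_of (hres : Res4) : Over4b := by
  intro F _ _ f r s hf hF hr _ H hH hd _
  have hf1 : 1 ≤ f := by omega
  have hpp := hr.pp (by norm_num) hf1
  have hFn : Nat.card F = 2 ^ f := by rw [Nat.card_eq_fintype_card, hF]
  have hr6 := hpp.lt hf1 (by norm_num)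
  have hodd := even_of hf1 hF
  obtain ⟨x, hxH, hxs, hx1⟩ := exists_elt hr.prime hd
  have hxsp : x ∈ spGL 4 F := hH.1.le hxH
  have h1 := six_fx hpp hf1 hFn hxs hx1
  rcases S5823.result H hH with ⟨W, hW0, hts, e⟩ | ⟨W, hW0, hnd, hW, e⟩ | ⟨-, D, hD, e⟩ | ⟨D, hD, e⟩ | ⟨h, -⟩ |
    ⟨K, hK, hsa, halt, e⟩ | ⟨h, -⟩ | ⟨h, -⟩ | ⟨F₀, r', P, ζ, hr', hc, -, -, e⟩ | ⟨p, R, hp, hpo, hpc, -⟩ | ⟨h, -⟩ |
    ⟨-, Q, hQ, hpol, e⟩ | h
  · left
    rw [e] at hxH
    have hinv := inv_of_mem hxH.1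
    have h2 := finrank_le_of_ts hts
    have h3 := hpp.dvd_dim hf1 hFn hxs hinv
    have h4 : finrank F (W ⊓ fx x : Submodule F _) ≤ finrank F W := Submodule.finrank_mono inf_le_left
    have h6 : W ⊓ fx x = W := Submodule.eq_of_le_of_finrank_eq inf_le_left (by omega)
    have h7 : W ≤ fx x := inf_eq_left.1 h6
    have h8 := Submodule.finrank_mono h7
    have h9 : finrank F W ≠ 0 := by
      rw [Ne, Submodule.finrank_eq_zero]; exact hW0
    have hW1 : finrank F W = 1 := by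
      by_contra hcon
      have h10 : W = fx x := Submodule.eq_of_le_of_finrank_eq h7 (by omega)
      obtain ⟨w, hw, hw0⟩ := (Submodule.ne_bot_iff _).1 hW0
      obtain ⟨y, hy, hy1⟩ := fx_nd hxsp hxs (cast_ne Nat.prime_two hFn hr.prime (hpp.ne_char Nat.prime_two)) (h7 hw) hw0
      rw [← h10] at hy
      exact hy1 (hts y hy w hw)
    obtain ⟨v, hv, hv0⟩ := (Submodule.ne_bot_iff _).1 hW0
    have hspan : W = Submodule.span F {v} := by
      symm
      refine Submodule.eq_of_le_of_finrank_eq ?_ ?_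
      · rw [Submodule.span_singleton_le_iff_mem]; exact hv
      · rw [finrank_span_singleton hv0, hW1]
    refine ⟨v, hv0, ?_⟩
    rw [← hspan, e]
    exact inf_le_left
  · right; left
    rw [e] at hxH
    have hinv := inv_of_mem hxH.1
    have h3 := hpp.dvd_dim hf1 hFn hxs hinv
    have h4 : finrank F (W ⊓ fx x : Submodule F _) ≤ finrank F W := Submodule.finrank_mono inf_le_left
    have h6 : W ⊓ fx x = W := Submodule.eq_of_le_of_finrank_eq inf_le_left (by omega)
    have h7 : W ≤ fx x := inf_eq_left.1 h6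
    have h8 := Submodule.finrank_mono h7
    have h9 : finrank F W ≠ 0 := by
      rw [Ne, Submodule.finrank_eq_zero]; exact hW0
    refine ⟨W, ?_, hnd, by rw [e]; exact inf_le_left⟩
    by_contra hcon
    have hW1 : finrank F W = 1 := by omega
    obtain ⟨v, hv, hv0⟩ := (Submodule.ne_bot_iff _).1 hW0
    obtain ⟨⟨y, hy, hy1⟩, -⟩ := hnd v hv hv0
    obtain ⟨c, hc⟩ := (finrank_eq_one_iff_of_nonzero' (⟨v, hv⟩ : W) (fun h => hv0 (congrArg Subtype.val h))).1 hW1 ⟨y, hy⟩
    have hc' : c • v = y := congrArg Subtype.val hc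
    apply hy1
    rw [← hc']
    first
      | rw [sympForm_smul_right, sympForm_self, mul_zero]
      | rw [sympForm_smul_left, sympForm_self, mul_zero]
  · exfalso
    rw [e] at hd
    exact kill_decomp hpp hf1 hFn hD.decomp (by omega) (by norm_num) (dvd_left hd)
  · exfalso
    rw [e] at hd
    exact kill_decomp hpp hf1 hFn hD.decomp (by omega) (by norm_num) (dvd_left hd)
  · exact absurd h hodd
  · exfalso
    rw [e] at hxH
    -- `x` centralises `K`, its fixed space is `K v`, totally singular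
    have hne : fx x ≠ ⊥ := by
      intro h2
      rw [h2, finrank_bot] at h1
      omega
    obtain ⟨v, hv, hv0⟩ := (Submodule.ne_bot_iff _).1 hne
    have hcomm : ∀ k ∈ K, (x : Matrix (Fin 4 ⊕ Fin 4) (Fin 4 ⊕ Fin 4) F) * k = k * (x : Matrix (Fin 4 ⊕ Fin 4) (Fin 4 ⊕ Fin 4) F) :=
      fun k hk => comm_of_field Nat.prime_two hK hr.prime (by omega) hxH.1 hxs hk
    let ev : K →ₗ[F] (Fin 4 ⊕ Fin 4 → F) :=
      { toFun := fun k => (k : Matrix (Fin 4 ⊕ Fin 4) (Fin 4 ⊕ Fin 4) F) *ᵥ v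
        map_add' := fun a b => Matrix.add_mulVec _ _ _
        map_smul' := fun c a => Matrix.smul_mulVec _ _ _ }
    have hinj : Function.Injective ev := by
      rw [injective_iff_map_eq_zero]
      intro k hk
      by_contra hk0
      obtain ⟨y, hy, hky⟩ := hK.inv k k.2 (fun h => hk0 (Subtype.ext h))
      have h2 : (k : Matrix (Fin 4 ⊕ Fin 4) (Fin 4 ⊕ Fin 4) F) *ᵥ v = 0 := hk
      have h3 : ((k : Matrix (Fin 4 ⊕ Fin 4) (Fin 4 ⊕ Fin 4) F) * y) *ᵥ v = v := by rw [hky, Matrix.one_mulVec]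
      rw [hK.comm k k.2 y hy, ← Matrix.mulVec_mulVec, h2, Matrix.mulVec_zero] at h3
      exact hv0 h3.symm
    have hrange : LinearMap.range ev = fx x := by
      refine Submodule.eq_of_le_of_finrank_eq ?_ ?_
      · rintro _ ⟨k, rfl⟩
        rw [mem_fx]
        show (x : Matrix (Fin 4 ⊕ Fin 4) (Fin 4 ⊕ Fin 4) F) *ᵥ ((k : Matrix (Fin 4 ⊕ Fin 4) (Fin 4 ⊕ Fin 4) F) *ᵥ v) = _
        rw [Matrix.mulVec_mulVec, hcomm k k.2, ← Matrix.mulVec_mulVec, mem_fx.1 hv]
        rfl
      · rw [LinearMap.finrank_range_of_inj hinj, h1]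
        exact hK.finrank_eq
    obtain ⟨y, hy, hy1⟩ := fx_nd hxsp hxs (cast_ne Nat.prime_two hFn hr.prime (hpp.ne_char Nat.prime_two)) hv hv0
    rw [← hrange] at hy
    obtain ⟨k, rfl⟩ := hy
    exact hy1 (halt k k.2 v)
  · exact absurd h hodd
  · exact absurd h hodd
  · exfalso
    rw [e] at hd
    refine kill_subfield Nat.prime_two hpp hf1 hFn hr'.two_le hc P (by norm_num) ?_ (dvd_left hd)
    have : Fintype.card (Fin 4 ⊕ Fin 4) = 8 := rfl
    have := hr'.two_le
    omega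
  · rw [← hpc] at hpo
    exact absurd hpo hodd
  · exact absurd h hodd
  · right; right
    refine ⟨Q, hQ, hpol, fun g hg => ?_⟩
    rw [e] at hg
    exact Cfsg.Agent.H262.El.mem_isometry (by norm_num) hpol hg.1 hg.2
  · exact absurd h (hres hf hF H hH)

end Cfsg.Agent.H173.Rs
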