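import Cfsg.Agent.H173.Rs.Over4
import Cfsg.Agent.S5824

/-!
# S3691, `PSp_8(2^f)`: the residual class is empty (helper173)
-/

set_option autoImplicit false

namespace Cfsg.Agent.H173.Rs

open Cfsg Cfsg.Geo Module Cfsg.Agent.H659.Rs

theorem res4 : Res4 := by
  intro F _ _ f hf hF H hH hS
  have h2 := charP_two hF
  have h16 : 2 ^ 4 ≤ Fintype.card F := by
    rw [hF]
    exact Nat.pow_le_pow_right (by norm_num) hf
  have hodd := even_of (by omega) hF
  obtain ⟨P, p, -, hp, hpc, h⟩ := S5824.result H hH hS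
  have hp2 : p = 2 := CharP.eq F hpc h2
  subst hp2
  rcases h with ⟨-, -, h, -⟩ | ⟨-, ⟨h, -⟩ | ⟨-, h, -⟩⟩ | ⟨-, ⟨h, -⟩ | ⟨h, -⟩⟩ | ⟨-, h⟩ | ⟨-, h⟩ | ⟨-, h⟩
  · omega
  · omega
  · exact h rfl
  · omega
  · omega
  · omega
  · omega
  · exact hodd h

theorem over4a : Over4a := over4a_of res4

theorem over4b : Over4b := over4b_of res4

end Cfsg.Agent.H173.Rs
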